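import Mathlib
import Cfsg.Agent.Lib.OddOrder.Cyclic

/-!
# Power graphs: an isomorphism preserves the orders of the maximal cyclic subgroups that are not
primary.

The argument is elementary: it compares closed neighbourhoods, dominating vertices and parities.
-/

set_option autoImplicit false

namespace Cfsg.Agent.Lib.PowerGraph

open Subgroup

variable {G H : Type*} [Group G] [Group H]

/-- Adjacency (or equality) in the power graph. -/
def PAdj (x y : G) : Prop := x ∈ zpowers y ∨ y ∈ zpowers x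

/-- The closed neighbourhood. -/
def nbr (x : G) : Set G := {z | PAdj x z}

/-- The vertices dominating the closed neighbourhood of `x`. -/
def dom (x : G) : Set G := {y | nbr x ⊆ nbr y}

/-- `x` generates a maximal cyclic subgroup. -/
def IsMaxCyc (x : G) : Prop := ∀ z : G, x ∈ zpowers z → z ∈ zpowers x

theorem PAdj.symm {x y : G} (h : PAdj x y) : PAdj y x := Or.symm h

theorem pAdj_self (x : G) : PAdj x x := Or.inl (mem_zpowers x)

theorem mem_nbr {x z : G} : z ∈ nbr x ↔ PAdj x z := Iff.rfl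

theorem nbr_one : nbr (1 : G) = Set.univ :=
  Set.eq_univ_of_forall fun _ => Or.inl (one_mem _)

theorem one_mem_dom (x : G) : (1 : G) ∈ dom x := by
  show nbr x ⊆ nbr 1
  rw [nbr_one]; exact Set.subset_univ _

theorem nbr_eq_of_isMaxCyc {x : G} (hx : IsMaxCyc x) : nbr x = (zpowers x : Set G) := by
  ext z
  exact ⟨fun h => h.elim (hx z) id, fun h => Or.inr h⟩

theorem ncard_zpowers (x : G) : (zpowers x : Set G).ncard = orderOf x := by
  rw [← Nat.card_coe_set_eq]; exact Nat.card_zpowers x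

variable [Finite G]

theorem exists_isMaxCyc (x : G) : ∃ k : G, x ∈ zpowers k ∧ IsMaxCyc k := by
  obtain ⟨k, hk, hmax⟩ := Set.exists_max_image {z : G | x ∈ zpowers z} orderOf (Set.toFinite _)
    ⟨x, mem_zpowers x⟩
  refine ⟨k, hk, fun z hz => ?_⟩
  have h1 : zpowers k ≤ zpowers z := zpowers_le.2 hz
  have h2 : Nat.card (zpowers z) ≤ Nat.card (zpowers k) := by
    rw [Nat.card_zpowers, Nat.card_zpowers]; exact hmax z (h1 hk)
  rw [eq_of_le_of_card_ge h1 h2]
  exact mem_zpowers z

theorem zpowers_eq_of_orderOf_eq {g y z : G} (hy : y ∈ zpowers g) (hz : z ∈ zpowers g)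
    (h : orderOf y = orderOf z) : zpowers y = zpowers z :=
  Lib.OddOrder.Cyclic.eq_of_card_eq_of_isCyclic (W := zpowers g) (zpowers_le.2 hy)
    (zpowers_le.2 hz) (by rw [Nat.card_zpowers, Nat.card_zpowers, h])

theorem mem_zpowers_of_dvd {g y z : G} (hy : y ∈ zpowers g) (hz : z ∈ zpowers g)
    (h : orderOf z ∣ orderOf y) : z ∈ zpowers y := by
  have hw : y ^ (orderOf y / orderOf z) ∈ zpowers y := npow_mem_zpowers y _
  have ho : orderOf (y ^ (orderOf y / orderOf z)) = orderOf z :=
    orderOf_pow_orderOf_div (orderOf_pos y).ne' h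
  have := zpowers_eq_of_orderOf_eq (zpowers_le.2 hy hw) hz ho
  exact zpowers_le.2 hw (this ▸ mem_zpowers z)

theorem orderOf_dvd_of_mem {y z : G} (h : z ∈ zpowers y) : orderOf z ∣ orderOf y := by
  obtain ⟨m, rfl⟩ := mem_zpowers_iff.1 h
  exact orderOf_dvd_of_pow_eq_one (by
    rw [← zpow_natCast, ← zpow_mul, mul_comm, zpow_mul, zpow_natCast, pow_orderOf_eq_one, one_zpow])

/-- The number of generators of a cyclic subgroup. -/
theorem ncard_generators (g : G) :
    {y : G | y ∈ zpowers g ∧ orderOf y = orderOf g}.ncard = (orderOf g).totient := by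
  classical
  haveI := Fintype.ofFinite (zpowers g)
  have h1 := IsCyclic.card_orderOf_eq_totient (α := zpowers g) (d := orderOf g)
    (by rw [← Nat.card_eq_fintype_card, Nat.card_zpowers])
  rw [← h1, ← Nat.card_coe_set_eq, ← Fintype.card_subtype, ← Nat.card_eq_fintype_card]
  exact Nat.card_congr
    { toFun := fun y => ⟨⟨y.1, y.2.1⟩, by rw [Subgroup.orderOf_mk]; exact y.2.2⟩
      invFun := fun y => ⟨y.1.1, y.1.2, by rw [Subgroup.orderOf_coe]; exact y.2⟩
      left_inv := fun _ => rfl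
      right_inv := fun _ => rfl }

/-- In a cyclic group of non-prime-power order, only the identity and the generators are adjacent
to everything. -/
theorem eq_one_or_orderOf_eq {g y : G} (hy : y ∈ zpowers g) (hg : ¬ IsPrimePow (orderOf g))
    (hadj : ∀ z ∈ zpowers g, PAdj y z) : y = 1 ∨ orderOf y = orderOf g := by
  by_contra hcon
  rw [not_or] at hcon
  obtain ⟨hy1, hyn⟩ := hcon
  have hyd := orderOf_dvd_of_mem hy
  have hn : orderOf g ≠ 0 := (orderOf_pos g).ne'
  have hcomp : ∀ d, d ∣ orderOf g → d ∣ orderOf y ∨ orderOf y ∣ d := by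
    intro d hd
    have ho : orderOf (g ^ (orderOf g / d)) = d := orderOf_pow_orderOf_div hn hd
    rcases hadj _ (npow_mem_zpowers g (orderOf g / d)) with h | h
    · exact Or.inr (ho ▸ orderOf_dvd_of_mem h)
    · exact Or.inl (ho ▸ orderOf_dvd_of_mem h)
  -- some full prime power part of `n` does not divide `orderOf y`
  obtain ⟨q, k, hq, hk, hnd⟩ : ∃ q k, q.Prime ∧ q ^ k ∣ orderOf g ∧ ¬ q ^ k ∣ orderOf y := by
    by_contra h
    push_neg at h
    exact hyn (Nat.dvd_antisymm hyd (Nat.dvd_iff_prime_pow_dvd_dvd _ _ |>.2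
      fun q k hq hk => h q k hq hk))
  obtain ⟨i, -, hi⟩ := (Nat.dvd_prime_pow hq).1 ((hcomp _ hk).resolve_left hnd)
  obtain ⟨r, hr, hrg, hrq⟩ : ∃ r, r.Prime ∧ r ∣ orderOf g ∧ r ≠ q := by
    by_contra h
    push_neg at h
    have hall : ∀ r, r.Prime → r ∣ orderOf g → r = q := h
    refine hg ((isPrimePow_nat_iff _).2 ⟨q, (orderOf g).factorization q, hq, ?_, ?_⟩)
    · refine hq.factorization_pos_of_dvd hn ((dvd_pow_self q ?_).trans hk)
      rintro rfl
      exact hnd (by simp)
    · exact (Nat.eq_prime_pow_of_unique_prime_dvd hn (fun {d} hd hdn => hall d hd hdn)).symm ▸ by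
        rw [hq.factorization_pow]; simp
  rcases hcomp r hrg with h | h
  · rw [hi] at h
    exact hrq ((Nat.prime_dvd_prime_iff_eq hr hq).1 (hr.dvd_of_dvd_pow h))
  · rcases (Nat.dvd_prime hr).1 h with h1 | h1
    · exact hy1 (orderOf_eq_one_iff.1 h1)
    · rw [hi] at h1
      have hri : r ∣ q ^ i := h1.symm ▸ dvd_rfl
      exact hrq ((Nat.prime_dvd_prime_iff_eq hr hq).1 (hr.dvd_of_dvd_pow hri))

/-- A primary cyclic group is a clique. -/
theorem pAdj_of_isPrimePow {g y z : G} (hg : IsPrimePow (orderOf g)) (hy : y ∈ zpowers g)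
    (hz : z ∈ zpowers g) : PAdj y z := by
  obtain ⟨p, k, hp, -, hk⟩ := (isPrimePow_nat_iff _).1 hg
  obtain ⟨i, -, hi⟩ := (Nat.dvd_prime_pow hp).1 (hk.symm ▸ orderOf_dvd_of_mem hy)
  obtain ⟨j, -, hj⟩ := (Nat.dvd_prime_pow hp).1 (hk.symm ▸ orderOf_dvd_of_mem hz)
  rcases le_total i j with h | h
  · exact Or.inl (mem_zpowers_of_dvd hz hy (hi ▸ hj ▸ pow_dvd_pow p h))
  · exact Or.inr (mem_zpowers_of_dvd hy hz (hi ▸ hj ▸ pow_dvd_pow p h))

theorem two_lt_of_not_isPrimePow {n : ℕ} (h : ¬ IsPrimePow n) (h1 : 1 < n) : 2 < n := by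
  rcases Nat.lt_or_ge 2 n with h2 | h2
  · exact h2
  · exact absurd ((show n = 2 by omega) ▸ Nat.prime_two.isPrimePow) h

/-- The dominating vertices of a maximal non-primary cyclic subgroup. -/
theorem dom_eq {g : G} (hg : IsMaxCyc g) (hpp : ¬ IsPrimePow (orderOf g)) :
    dom g = insert 1 {y : G | y ∈ zpowers g ∧ orderOf y = orderOf g} := by
  ext y
  constructor
  · intro hy
    have hyg : y ∈ zpowers g := by
      have : g ∈ nbr y := hy (pAdj_self g)
      exact this.elim (fun h => h) (hg y)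
    rcases eq_one_or_orderOf_eq hyg hpp (fun z hz => hy (Or.inr hz)) with h | h
    · exact Or.inl h
    · exact Or.inr ⟨hyg, h⟩
  · rintro (rfl | ⟨hy, ho⟩)
    · exact one_mem_dom g
    · intro z hz
      rw [nbr_eq_of_isMaxCyc hg] at hz
      exact Or.inr (mem_zpowers_of_dvd hy hz (ho ▸ orderOf_dvd_of_mem hz))

theorem ncard_dom {g : G} (hg : IsMaxCyc g) (hpp : ¬ IsPrimePow (orderOf g)) (h1 : g ≠ 1) :
    (dom g).ncard = (orderOf g).totient + 1 := by
  rw [dom_eq hg hpp, Set.ncard_insert_of_notMem ?_ (Set.toFinite _), ncard_generators]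
  rintro ⟨-, h⟩
  rw [orderOf_one] at h
  exact h1 (orderOf_eq_one_iff.1 h.symm)

theorem nbr_eq_of_mem_dom {g y : G} (hg : IsMaxCyc g) (hpp : ¬ IsPrimePow (orderOf g))
    (hy : y ∈ dom g) (hy1 : y ≠ 1) : nbr y = nbr g := by
  refine Set.Subset.antisymm ?_ hy
  rw [dom_eq hg hpp] at hy
  obtain ⟨hyg, ho⟩ := hy.resolve_left hy1
  have heq := zpowers_eq_of_orderOf_eq hyg (mem_zpowers g) ho
  rintro z (h | h)
  · exact Or.inl (zpowers_le.2 h (heq ▸ mem_zpowers g : g ∈ zpowers y))
  · exact Or.inr (zpowers_le.2 hyg h)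

/-- The neighbours strictly above `x` come in inverse pairs. -/
theorem odd_ncard_nbr {x : G} (hx : 2 < orderOf x) :
    Odd (nbr x).ncard ↔ Odd (orderOf x) := by
  classical
  set O : Set G := {z | x ∈ zpowers z ∧ z ∉ zpowers x}
  have heq : nbr x = (zpowers x : Set G) ∪ O := by
    ext z
    by_cases hz : z ∈ zpowers x
    · simp [mem_nbr, PAdj, hz]
    · simp [mem_nbr, PAdj, hz, O]
  have hdisj : Disjoint (zpowers x : Set G) O :=
    Set.disjoint_left.2 fun z hz hz' => hz'.2 hz
  haveI := Fintype.ofFinite G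
  have hO : Even O.ncard := by
    rw [Set.ncard_eq_toFinset_card' O, ← ZMod.natCast_eq_zero_iff_even, Finset.cast_card]
    refine Finset.sum_involution (fun z _ => z⁻¹) (fun z _ => by decide) ?_ ?_ ?_
    · intro z hz _ hfix
      rw [Set.mem_toFinset] at hz
      have h2 : orderOf z ∣ 2 := orderOf_dvd_of_pow_eq_one (by
        rw [pow_two]; nth_rw 1 [← hfix]; exact inv_mul_cancel z)
      have := Nat.le_of_dvd two_pos ((orderOf_dvd_of_mem hz.1).trans h2)
      omega
    · intro z hz
      rw [Set.mem_toFinset] at hz ⊢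
      exact ⟨zpowers_inv (g := z) ▸ hz.1, fun h => hz.2 (by simpa using inv_mem h)⟩
    · exact fun z _ => inv_inv z
  rw [heq, Set.ncard_union_eq hdisj (Set.toFinite _) (Set.toFinite _), ncard_zpowers, Nat.odd_add]
  exact ⟨fun h => h.2 hO, fun h => iff_of_true h hO⟩

theorem totient_le_of_dvd {S n : ℕ} (hn : 0 < n) (hS : S ∣ n) : S.totient ≤ n.totient :=
  Nat.le_of_dvd (Nat.totient_pos.2 hn) (Nat.totient_dvd_of_dvd hS)

theorem two_mul_totient_le {S n : ℕ} (hn : 0 < n) (hS : S ∣ n) (hlt : S < n)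
    (h : Odd n ∨ Even S) : 2 * S.totient ≤ n.totient := by
  obtain ⟨c, rfl⟩ := hS
  have hc : c ≠ 1 := fun h => by simp [h] at hlt
  obtain ⟨q, hq, hqc⟩ := Nat.exists_prime_and_dvd hc
  refine le_trans ?_ (totient_le_of_dvd hn (mul_dvd_mul_left S hqc))
  rw [mul_comm S q]
  by_cases hqS : q ∣ S
  · rw [Nat.totient_mul_of_prime_of_dvd hq hqS]
    exact Nat.mul_le_mul_right _ hq.two_le
  · rw [Nat.totient_mul_of_prime_of_not_dvd hq hqS]
    refine Nat.mul_le_mul_right _ ?_
    have h2 : q ≠ 2 := by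
      rintro rfl
      rcases h with h | h
      · exact Nat.not_even_iff_odd.2 h ((even_iff_two_dvd.2 (dvd_mul_of_dvd_right hqc S)))
      · exact hqS (even_iff_two_dvd.1 h)
    have := hq.two_le
    omega

/-- A clique inside a cyclic group of odd order `n` has at most `2 φ(n)` elements. -/
theorem ncard_clique_le {g : G} (hg : Odd (orderOf g)) {C : Set G}
    (hC : C ⊆ (zpowers g : Set G)) (hclique : ∀ a ∈ C, ∀ b ∈ C, PAdj a b) :
    C.ncard ≤ 2 * (orderOf g).totient := by
  induction hn : orderOf g using Nat.strong_induction_on generalizing g C with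
  | _ n ih =>
  set D : Set G := {y : G | y ∈ zpowers g ∧ orderOf y = orderOf g}
  have hD : D.ncard = n.totient := hn ▸ ncard_generators g
  have hle : C.ncard ≤ D.ncard + (C \ D).ncard := by
    calc C.ncard ≤ (D ∪ C \ D).ncard :=
          Set.ncard_le_ncard (by rw [Set.union_diff_self]; exact Set.subset_union_right)
            (Set.toFinite _)
      _ ≤ _ := Set.ncard_union_le _ _
  rcases Set.eq_empty_or_nonempty (C \ D) with h | h
  · rw [h, Set.ncard_empty] at hle
    omega
  obtain ⟨y, hy, hmax⟩ := Set.exists_max_image (C \ D) orderOf (Set.toFinite _) h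
  have hyg : y ∈ zpowers g := hC hy.1
  have hlt : orderOf y < n := by
    refine lt_of_le_of_ne (hn ▸ Nat.le_of_dvd (orderOf_pos g) (orderOf_dvd_of_mem hyg)) ?_
    exact fun h => hy.2 ⟨hyg, h.trans hn.symm⟩
  have hsub : C \ D ⊆ (zpowers y : Set G) := by
    intro z hz
    rcases hclique z hz.1 y hy.1 with h1 | h1
    · exact h1
    · have h2 : orderOf y = orderOf z :=
        le_antisymm (Nat.le_of_dvd (orderOf_pos z) (orderOf_dvd_of_mem h1)) (hmax z hz)
      exact mem_zpowers_of_dvd hyg (hC hz.1) h2.symm.dvd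
  have h1 := ih _ hlt ((hn ▸ hg).of_dvd_nat (hn ▸ orderOf_dvd_of_mem hyg)) hsub
    (fun a ha b hb => hclique a ha.1 b hb.1) rfl
  have h2 := two_mul_totient_le (hn ▸ orderOf_pos g) (hn ▸ orderOf_dvd_of_mem hyg) hlt
    (Or.inl (hn ▸ hg))
  omega

/-- The two possible shapes of a vertex `h` imitating a maximal cyclic subgroup of non-primary
order `n` without being one. -/
theorem side {h k : G} {n : ℕ} (hn2 : 2 < n) (hh : h ≠ 1) (hN : (nbr h).ncard = n)
    (hD : (dom h).ncard = n.totient + 1) (htw : ∀ y ∈ dom h, y ≠ 1 → nbr y = nbr h)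
    (hhk : h ∈ zpowers k) (hk : IsMaxCyc k) (hne : nbr k ≠ nbr h) :
    ∃ T : ℕ, T ∣ orderOf k ∧ T < orderOf k ∧
      (((¬ IsPrimePow (orderOf k)) ∧ T.totient = n.totient ∧ (Odd T → Odd n)) ∨
        (T = n.totient + 1 ∧ Odd n ∧ 2 * T ≤ 3 * T.totient ∧
          (IsPrimePow (orderOf k) → 3 * T ≤ orderOf k))) := by
  have hk0 := orderOf_pos k
  by_cases hpp : IsPrimePow (orderOf h)
  · -- the dominating vertices form a primary cyclic subgroup
    obtain ⟨r, i, hr, hi, hri⟩ := (isPrimePow_nat_iff _).1 hpp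
    have hdom : ∀ y ∈ dom h, y ≠ 1 → IsPrimePow (orderOf y) := by
      intro y hy hy1
      rcases (hy (pAdj_self h) : PAdj y h) with hc | hc
      · refine hpp.dvd (orderOf_dvd_of_mem hc) fun h1 => hy1 (orderOf_eq_one_iff.1 h1)
      · by_contra hnp
        rcases eq_one_or_orderOf_eq hc hnp (fun z hz => by
          have : z ∈ nbr h := (htw y hy hy1) ▸ (Or.inr hz : z ∈ nbr y)
          exact this) with h1 | h1
        · exact hh h1
        · exact hnp (h1 ▸ hpp)
    obtain ⟨y0, hy0, hmax⟩ := Set.exists_max_image (dom h) orderOf (Set.toFinite _)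
      ⟨h, fun _ hz => hz⟩
    have hy01 : y0 ≠ 1 := by
      intro h1
      have h2 := hmax h (fun _ hz => hz)
      rw [h1, orderOf_one] at h2
      exact hh (orderOf_eq_one_iff.1 (le_antisymm h2 (orderOf_pos h)))
    have hy0pp := hdom y0 hy0 hy01
    have hy0N := htw y0 hy0 hy01
    have heq : dom h = (zpowers y0 : Set G) := by
      ext z
      constructor
      · intro hz
        have hy0h : y0 ∈ nbr h := PAdj.symm (hy0 (pAdj_self h))
        rcases (hz hy0h : PAdj z y0) with h1 | h1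
        · exact h1
        · have h2 : orderOf y0 = orderOf z :=
            le_antisymm (Nat.le_of_dvd (orderOf_pos z) (orderOf_dvd_of_mem h1)) (hmax z hz)
          exact mem_zpowers_of_dvd h1 (mem_zpowers z) h2.symm.dvd
      · intro hz w hw
        rw [← hy0N] at hw
        rcases (hw : PAdj y0 w) with h1 | h1
        · exact Or.inl (zpowers_le.2 h1 hz)
        · exact pAdj_of_isPrimePow hy0pp hz h1
    have hT : orderOf y0 = n.totient + 1 := by rw [← ncard_zpowers y0, ← heq, hD]
    have hφ := Nat.totient_even hn2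
    have hφ0 : 0 < n.totient := Nat.totient_pos.2 (by omega)
    have hodd : Odd (orderOf y0) := hT ▸ hφ.add_one
    have hy0k : y0 ∈ zpowers k := by
      have : k ∈ nbr y0 := hy0N ▸ (Or.inl hhk : k ∈ nbr h)
      exact this.elim id (hk y0)
    have hlt : orderOf y0 < orderOf k := by
      refine lt_of_le_of_ne (Nat.le_of_dvd hk0 (orderOf_dvd_of_mem hy0k)) fun he => hne ?_
      have hky : k ∈ zpowers y0 := mem_zpowers_of_dvd hy0k (mem_zpowers k) he.symm.dvd
      rw [← hy0N]
      refine Set.Subset.antisymm ?_ ?_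
      · rintro z (h1 | h1)
        · exact Or.inl (zpowers_le.2 h1 hy0k)
        · exact Or.inr (zpowers_le.2 hky h1)
      · rintro z (h1 | h1)
        · exact Or.inl (zpowers_le.2 h1 hky)
        · exact Or.inr (zpowers_le.2 hy0k h1)
    refine ⟨orderOf y0, orderOf_dvd_of_mem hy0k, hlt, Or.inr ⟨hT, ?_, ?_, ?_⟩⟩
    · rw [← hN, ← hy0N]
      refine (odd_ncard_nbr ?_).2 hodd
      rcases hφ with ⟨a, ha⟩
      omega
    · obtain ⟨s, j, hs, hj, hsj⟩ := (isPrimePow_nat_iff _).1 hy0pp
      rw [← hsj, Nat.totient_prime_pow hs hj]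
      have hs3 : 3 ≤ s := by
        rcases Nat.lt_or_ge s 3 with h3 | h3
        · have h2s : s = 2 := by have := hs.two_le; omega
          subst h2s
          exact absurd (hsj ▸ hodd) (Nat.not_odd_iff_even.2 ((Nat.even_pow).2 ⟨even_two, hj.ne'⟩))
        · exact h3
      obtain ⟨j, rfl⟩ : ∃ j', j = j' + 1 := ⟨j - 1, by omega⟩
      rw [Nat.add_sub_cancel, pow_succ]
      calc 2 * (s ^ j * s) = s ^ j * (2 * s) := by ring
        _ ≤ s ^ j * (3 * (s - 1)) := Nat.mul_le_mul_left _ (by omega)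
        _ = 3 * (s ^ j * (s - 1)) := by ring
    · intro hkpp
      obtain ⟨s, j, hs, -, hsj⟩ := (isPrimePow_nat_iff _).1 hkpp
      obtain ⟨c, hc⟩ := orderOf_dvd_of_mem hy0k
      have hc1 : c ≠ 1 := fun h1 => by rw [h1, mul_one] at hc; omega
      obtain ⟨q, hq, hqc⟩ := Nat.exists_prime_and_dvd hc1
      have hqk : q = s :=
        (Nat.prime_dvd_prime_iff_eq hq hs).1 (hq.dvd_of_dvd_pow
          (hsj.symm ▸ hc ▸ dvd_mul_of_dvd_right hqc _))
      obtain ⟨t, ht, hty⟩ := Nat.exists_prime_and_dvd (n := orderOf y0) (by omega)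
      have htk : t = s :=
        (Nat.prime_dvd_prime_iff_eq ht hs).1 (ht.dvd_of_dvd_pow
          (hsj.symm ▸ hc ▸ dvd_mul_of_dvd_left hty _))
      have hs2 : s ≠ 2 := by
        rintro rfl
        exact Nat.not_even_iff_odd.2 hodd (even_iff_two_dvd.2 (htk ▸ hty))
      have := Nat.le_of_dvd (Nat.pos_of_ne_zero fun h0 => by rw [h0, mul_zero] at hc; omega) hqc
      have := hs.two_le
      calc 3 * orderOf y0 = orderOf y0 * 3 := mul_comm _ _
        _ ≤ orderOf y0 * c := Nat.mul_le_mul_left _ (by omega)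
        _ = orderOf k := hc.symm
  · -- the dominating vertices are the generators of `⟨h⟩`
    have heq : dom h = insert 1 {y : G | y ∈ zpowers h ∧ orderOf y = orderOf h} := by
      ext y
      constructor
      · intro hy
        by_cases hy1 : y = 1
        · exact Or.inl hy1
        refine Or.inr ?_
        rcases (hy (pAdj_self h) : PAdj y h) with hc | hc
        · exact ⟨hc, (eq_one_or_orderOf_eq hc hpp (fun z hz => hy (Or.inr hz))).resolve_left hy1⟩
        · have hynp : ¬ IsPrimePow (orderOf y) := fun h1 =>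
            hpp (h1.dvd (orderOf_dvd_of_mem hc) fun h2 => hh (orderOf_eq_one_iff.1 h2))
          have hEq := (eq_one_or_orderOf_eq hc hynp (fun z hz => by
            have : z ∈ nbr h := (htw y hy hy1) ▸ (Or.inr hz : z ∈ nbr y)
            exact this)).resolve_left hh
          exact ⟨mem_zpowers_of_dvd hc (mem_zpowers y) hEq.symm.dvd, hEq.symm⟩
      · rintro (rfl | ⟨hy, ho⟩)
        · exact one_mem_dom h
        · have hhy : h ∈ zpowers y := mem_zpowers_of_dvd hy (mem_zpowers h) ho.symm.dvd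
          rintro z (h1 | h1)
          · exact Or.inl (zpowers_le.2 h1 hy)
          · exact Or.inr (zpowers_le.2 hhy h1)
    have hφ : (orderOf h).totient = n.totient := by
      have h2 : (dom h).ncard = (orderOf h).totient + 1 := by
        rw [heq, Set.ncard_insert_of_notMem ?_ (Set.toFinite _), ncard_generators]
        rintro ⟨-, h⟩
        rw [orderOf_one] at h
        exact hh (orderOf_eq_one_iff.1 h.symm)
      omega
    refine ⟨orderOf h, orderOf_dvd_of_mem hhk, ?_, Or.inl ⟨?_, hφ, ?_⟩⟩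
    · refine lt_of_le_of_ne (Nat.le_of_dvd hk0 (orderOf_dvd_of_mem hhk)) fun he => hne ?_
      have hkh : k ∈ zpowers h := mem_zpowers_of_dvd hhk (mem_zpowers k) he.symm.dvd
      refine Set.Subset.antisymm ?_ ?_
      · rintro z (h1 | h1)
        · exact Or.inl (zpowers_le.2 h1 hhk)
        · exact Or.inr (zpowers_le.2 hkh h1)
      · rintro z (h1 | h1)
        · exact Or.inl (zpowers_le.2 h1 hkh)
        · exact Or.inr (zpowers_le.2 hhk h1)
    · exact fun h1 => hpp (h1.dvd (orderOf_dvd_of_mem hhk) fun h2 => hh (orderOf_eq_one_iff.1 h2))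
    · intro hodd
      rw [← hN]
      refine (odd_ncard_nbr ?_).2 hodd
      refine two_lt_of_not_isPrimePow hpp ?_
      have := orderOf_pos h
      have : orderOf h ≠ 1 := fun h1 => hh (orderOf_eq_one_iff.1 h1)
      omega

variable [Finite H]

/-- A power graph isomorphism fixing the identity preserves the orders of maximal non-primary
cyclic subgroups. -/
theorem exists_orderOf_eq (e : G ≃ H) (he : ∀ x y, PAdj x y ↔ PAdj (e x) (e y)) (he1 : e 1 = 1)
    {g : G} (hg : IsMaxCyc g) (hpp : ¬ IsPrimePow (orderOf g)) (hg1 : g ≠ 1) :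
    ∃ k : H, orderOf k = orderOf g := by
  classical
  have himg : ∀ x, nbr (e x) = e '' nbr x := by
    intro x
    ext z
    obtain ⟨w, rfl⟩ := e.surjective z
    rw [e.injective.mem_set_image]
    exact (he x w).symm
  have hdimg : ∀ x, dom (e x) = e '' dom x := by
    intro x
    ext z
    obtain ⟨w, rfl⟩ := e.surjective z
    rw [e.injective.mem_set_image]
    show nbr (e x) ⊆ nbr (e w) ↔ nbr x ⊆ nbr w
    rw [himg, himg, Set.image_subset_image_iff e.injective]
  have hcard : ∀ s : Set G, (e '' s).ncard = s.ncard := fun s =>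
    Set.ncard_image_of_injective s e.injective
  set n := orderOf g with hn
  have hn1 : 1 < n := by
    have := orderOf_pos g
    have : n ≠ 1 := fun h => hg1 (orderOf_eq_one_iff.1 h)
    omega
  have hn2 := two_lt_of_not_isPrimePow hpp hn1
  set h := e g with hhdef
  have hN : (nbr h).ncard = n := by
    rw [himg, hcard, nbr_eq_of_isMaxCyc hg, ncard_zpowers]
  have hh1 : h ≠ 1 := fun h1 => hg1 (e.injective (h1.trans he1.symm))
  obtain ⟨k, hhk, hk⟩ := exists_isMaxCyc h
  by_cases hne : nbr k = nbr h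
  · exact ⟨k, by rw [← ncard_zpowers, ← nbr_eq_of_isMaxCyc hk, hne, hN]⟩
  exfalso
  obtain ⟨g', rfl⟩ := e.surjective k
  have hne' : nbr g ≠ nbr g' := fun h' => hne (by rw [himg, hhdef, himg, h'])
  have hadj : PAdj g g' := (he g g').2 (Or.inl hhk)
  have hg'g : g' ∈ zpowers g := hadj.elim (hg g') id
  have hg'1 : g' ≠ 1 := by
    rintro rfl
    rw [he1, zpowers_one_eq_bot, mem_bot] at hhk
    exact hh1 hhk
  obtain ⟨T, hTk, hTlt, hT⟩ := side hn2 hh1 hN
    (by rw [hdimg, hcard, ncard_dom hg hpp hg1])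
    (by
      intro y hy hy1
      rw [hhdef, hdimg] at hy
      obtain ⟨w, hw, rfl⟩ := hy
      rw [himg, hhdef, himg, nbr_eq_of_mem_dom hg hpp hw (fun h' => hy1 (h' ▸ he1))])
    hhk hk hne
  set m := orderOf (e g') with hm
  have hN' : (nbr g').ncard = m := by
    rw [← hcard, ← himg, nbr_eq_of_isMaxCyc hk, ncard_zpowers]
  by_cases hmpp : IsPrimePow m
  · obtain ⟨hTe, hodd, -, h3⟩ := hT.resolve_left fun h' => h'.1 hmpp
    have hcl : ∀ a ∈ nbr g', ∀ b ∈ nbr g', PAdj a b := by
      intro a ha b hb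
      rw [he]
      have ha' : e a ∈ nbr (e g') := himg g' ▸ ⟨a, ha, rfl⟩
      have hb' : e b ∈ nbr (e g') := himg g' ▸ ⟨b, hb, rfl⟩
      rw [nbr_eq_of_isMaxCyc hk] at ha' hb'
      exact pAdj_of_isPrimePow hmpp ha' hb'
    have hsub : nbr g' ⊆ (zpowers g : Set G) := by
      intro z hz
      rw [← nbr_eq_of_isMaxCyc hg]
      exact hcl g (Or.inl hg'g) z hz
    have h4 := ncard_clique_le hodd hsub hcl
    rw [hN'] at h4
    have := h3 hmpp
    rw [← hn] at h4
    omega
  have hm1 : e g' ≠ 1 := fun h' => hg'1 (e.injective (h'.trans he1.symm))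
  have hm2 : 2 < m := two_lt_of_not_isPrimePow hmpp (by
    have := orderOf_pos (e g')
    have : m ≠ 1 := fun h' => hm1 (orderOf_eq_one_iff.1 h')
    omega)
  obtain ⟨S, hSn, hSlt, hS⟩ := side hm2 hg'1 hN'
    (by rw [← hcard, ← hdimg, ncard_dom hk hmpp hm1])
    (by
      intro y hy hy1
      have hy' : e y ∈ dom (e g') := hdimg g' ▸ ⟨y, hy, rfl⟩
      have h1 := nbr_eq_of_mem_dom hk hmpp hy' fun h' => hy1 (e.injective (h'.trans he1.symm))
      rw [himg, himg] at h1
      exact Set.image_injective.2 e.injective h1)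
    hg'g hg hne'
  have hn0 : 0 < n := by omega
  have hm0 : 0 < m := by omega
  have e1 := totient_le_of_dvd hm0 hTk
  have e2 := totient_le_of_dvd hn0 hSn
  rcases hT with ⟨-, hTφ, hTp⟩ | ⟨hTe, hno, hT3, -⟩ <;>
    rcases hS with ⟨-, hSφ, hSp⟩ | ⟨hSe, hmo, hS3, -⟩
  · rcases Nat.even_or_odd S with hSev | hSod
    · have := two_mul_totient_le hn0 hSn hSlt (Or.inr hSev)
      have : 0 < m.totient := Nat.totient_pos.2 hm0
      omega
    · rcases Nat.even_or_odd T with hTev | hTod
      · have := two_mul_totient_le hm0 hTk hTlt (Or.inr hTev)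
        have : 0 < n.totient := Nat.totient_pos.2 hn0
        omega
      · have := two_mul_totient_le hn0 hSn hSlt (Or.inl (hTp hTod))
        have : 0 < m.totient := Nat.totient_pos.2 hm0
        omega
  · have := two_mul_totient_le hm0 hTk hTlt (Or.inl hmo)
    omega
  · have := two_mul_totient_le hn0 hSn hSlt (Or.inl hno)
    omega
  · have := two_mul_totient_le hm0 hTk hTlt (Or.inl hmo)
    have := two_mul_totient_le hn0 hSn hSlt (Or.inl hno)
    omega

/-- Power graph isomorphic groups: element orders `p * q` are preserved. -/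
theorem exists_orderOf_eq_mul (e : G ≃ H) (he : ∀ x y, PAdj x y ↔ PAdj (e x) (e y))
    {p q : ℕ} (hp : p.Prime) (hq : q.Prime) (hpq : p ≠ q) {g : G} (hg : orderOf g = p * q) :
    ∃ h : H, orderOf h = p * q := by
  classical
  -- normalise so that the identity is fixed
  have hfull : ∀ z : H, PAdj (e 1) z := by
    intro z
    obtain ⟨w, rfl⟩ := e.surjective z
    exact (he 1 w).1 (Or.inl (one_mem _))
  have hswap : ∀ a b : H, PAdj a b ↔ PAdj (Equiv.swap (e 1) 1 a) (Equiv.swap (e 1) 1 b) := by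
    have h1 : ∀ z : H, PAdj 1 z := fun z => Or.inl (one_mem _)
    intro a b
    simp only [Equiv.swap_apply_def]
    split_ifs <;> subst_vars <;>
      simp [h1, hfull, fun z => (h1 z).symm, fun z => (hfull z).symm]
  obtain ⟨g₀, hgg₀, hg₀⟩ := exists_isMaxCyc g
  have hdvd : p * q ∣ orderOf g₀ := hg ▸ orderOf_dvd_of_mem hgg₀
  have hpp : ¬ IsPrimePow (orderOf g₀) := by
    intro h
    obtain ⟨r, i, hr, -, hri⟩ := (isPrimePow_nat_iff _).1 h
    have h1 := (Nat.prime_dvd_prime_iff_eq hp hr).1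
      (hp.dvd_of_dvd_pow (hri.symm ▸ (Dvd.intro q rfl).trans hdvd))
    have h2 := (Nat.prime_dvd_prime_iff_eq hq hr).1
      (hq.dvd_of_dvd_pow (hri.symm ▸ (Dvd.intro_left p rfl).trans hdvd))
    exact hpq (h1.trans h2.symm)
  have hg01 : g₀ ≠ 1 := by
    rintro rfl
    rw [orderOf_one, Nat.dvd_one] at hdvd
    exact hp.ne_one (Nat.eq_one_of_mul_eq_one_right hdvd)
  obtain ⟨k, hk⟩ := exists_orderOf_eq (e.trans (Equiv.swap (e 1) 1))
    (fun x y => (he x y).trans (hswap _ _)) (by simp) hg₀ hpp hg01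
  exact ⟨k ^ (orderOf k / (p * q)), orderOf_pow_orderOf_div (orderOf_pos k).ne' (hk ▸ hdvd)⟩

end Cfsg.Agent.Lib.PowerGraph
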